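import Cfsg.Agent.Lib.H1.G85.Defs
import Cfsg.Agent.Lib.H26.G85CH34
import Cfsg.Agent.Lib.H5.G85A34

/-!
# S4385, end case `(q,t) = (3,4)`: assembly of the chain half (CH34) and the abstract half (A34)
-/

set_option autoImplicit false
open scoped Pointwise
open Cfsg.Agent.Lib.H5.Glaub Cfsg.Agent.Lib.H5.Glaub.Setup

namespace Cfsg.Agent.Lib.H1.G85

variable {G : Type*} [Group G]

/-- transport of a generation statement to the subtype -/
theorem top_of_le_map (H : Subgroup G) (N : Subgroup ↥H) (h : H ≤ N.map H.subtype) : N = ⊤ := by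
  rw [eq_top_iff]
  intro g _
  obtain ⟨n, hn, hng⟩ := h g.2
  have : n = g := Subtype.ext hng
  rw [← this]; exact hn

variable [Finite G]

/-- (C34) `(q,t) = (3,4)` -/
theorem case34 (S : Setup G) (hp2 : S.p = 2) (hU : S.Uni 4) (hI : S.Ivl 4) (hD : S.Dist 4 3) (hC : S.Cen 4 3)
    (x : ℤ → G) (hx : Gen S 4 x) (hodd : ¬ 2 ∣ (S.Pj 0).relIndex (H0 S)) :
    Nonempty (↥(H0 S) ⧸ Cfsg.oddCore ↥(H0 S) ≃* Equiv.Perm (Fin 4) × Multiplicative (ZMod 2)) := by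
  obtain ⟨hmem, ⟨q1, q2, q3⟩, hQle, hQcard, hN, hgen, hcomm, ⟨c, c', hcc, hau, hbv⟩, hcard⟩ :=
    Cfsg.Agent.Lib.H26.G85.chain34 S hp2 hU hI hD hC x hx hodd
  have hQH : S.Pj (-1) ⊓ S.Pj 0 ≤ H0 S := inf_le_right.trans (Pj_zero_le_H0 S)
  haveI hQn : ((S.Pj (-1) ⊓ S.Pj 0).subgroupOf (H0 S)).Normal :=
    (Subgroup.normal_subgroupOf_iff_le_normalizer hQH).2 hN
  have m1 := hmem (-1) (by norm_num) (by norm_num)
  have m2 := hmem (-2) (by norm_num) (by norm_num)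
  have m3 := hmem (-3) (by norm_num) (by norm_num)
  have m4 := hmem (-4) (by norm_num) (by norm_num)
  have m0 := hmem 0 (by norm_num) (by norm_num)
  have mc : c ∈ H0 S := by
    rcases hcc with ⟨rfl, -⟩ | ⟨rfl, -⟩ | ⟨rfl, -⟩
    · exact m3
    · exact m2
    · exact Subgroup.mul_mem _ m3 m2
  have mc' : c' ∈ H0 S := by
    rcases hcc with ⟨-, rfl⟩ | ⟨-, rfl⟩ | ⟨-, rfl⟩
    · exact m2
    · exact m1
    · exact Subgroup.mul_mem _ m2 m1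
  refine Cfsg.Agent.Lib.H5.G85.abs_s4z2 ((S.Pj (-1) ⊓ S.Pj 0).subgroupOf (H0 S))
    (⟨x (-1), m1⟩ : ↥(H0 S)) ⟨x (-2), m2⟩ ⟨x (-3), m3⟩
    ⟨x (-4), m4⟩ ⟨x 0, m0⟩ ⟨c, mc⟩ ⟨c', mc'⟩ ?_ ?_ ?_ ?_ ?_ ?_ ?_ ?_ ?_ ?_ ?_ ?_ ?_ ?_ ?_ ?_ ?_ ?_ ?_ ?_ ?_ hcard
  · exact Subgroup.mem_subgroupOf.2 q1
  · exact Subgroup.mem_subgroupOf.2 q2
  · exact Subgroup.mem_subgroupOf.2 q3
  · intro N hu hz hv g hg
    have := hQle (N.map (H0 S).subtype) (Subgroup.mem_map_of_mem _ hu) (Subgroup.mem_map_of_mem _ hz)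
      (Subgroup.mem_map_of_mem _ hv) (Subgroup.mem_subgroupOf.1 hg)
    obtain ⟨n, hn, hng⟩ := this
    have : n = g := Subtype.ext hng
    rw [← this]; exact hn
  · rw [← hQcard]
    exact Nat.card_congr (Subgroup.subgroupOfEquivOfLe hQH).toEquiv
  · exact Subtype.ext (hx.sq (-1))
  · exact Subtype.ext (hx.sq (-2))
  · exact Subtype.ext (hx.sq (-3))
  · exact Subtype.ext (hx.sq (-4))
  · exact Subtype.ext (hx.sq 0)
  · exact Subtype.ext (hcomm (-1) (-2) (by norm_num))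
  · exact Subtype.ext (hcomm (-1) (-3) (by norm_num))
  · exact Subtype.ext (hcomm (-2) (-3) (by norm_num))
  · exact Subtype.ext (hcomm (-4) (-2) (by norm_num))
  · exact Subtype.ext (hcomm (-4) (-3) (by norm_num))
  · exact Subtype.ext (hcomm 0 (-2) (by norm_num))
  · exact Subtype.ext (hcomm 0 (-1) (by norm_num))
  · exact Subtype.ext hau
  · exact Subtype.ext hbv
  · rcases hcc with ⟨h1, h2⟩ | ⟨h1, h2⟩ | ⟨h1, h2⟩
    · exact Or.inl ⟨Subtype.ext h1, Subtype.ext h2⟩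
    · exact Or.inr (Or.inl ⟨Subtype.ext h1, Subtype.ext h2⟩)
    · exact Or.inr (Or.inr ⟨Subtype.ext h1, Subtype.ext h2⟩)
  · intro N ha hb hQN
    apply top_of_le_map
    apply hgen _ (Subgroup.mem_map_of_mem _ ha) (Subgroup.mem_map_of_mem _ hb)
    intro g hg
    exact ⟨⟨g, hQH hg⟩, hQN (Subgroup.mem_subgroupOf.2 hg), rfl⟩

end Cfsg.Agent.Lib.H1.G85
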