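import Cfsg.Agent.Lib.H5.Glaub.Defs
import Cfsg.Prelude.Def_Solvable
import Cfsg.Prelude.Def_CaseTheorems

/-!
# S4385 (Glauberman 1969, dihedral case) on top of the S4359 chain calculus: interface

Blueprint: `tools/blueprints/S4385.md`.  Conventions: `h = y * x`, `P_j = h^j P h^(-j)`,
`H = ⟨P_(-1), P_0⟩`, `O_2(H) = P_(-1) ∩ P_0 = I[-t+1,-1]`, `y H y⁻¹ = ⟨P_0, P_1⟩`.
-/

set_option autoImplicit false

namespace Cfsg.Agent.Lib.H1.G85

open scoped Pointwise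
open Cfsg.Agent.Lib.H5.Glaub

variable {G : Type*} [Group G]

/-- generators `x k` of the subgroups `X_k` of order 2, shifted by `h` -/
structure Gen (S : Setup G) (t : ℕ) (x : ℤ → G) : Prop where
  X_eq : ∀ k : ℤ, S.X t k = Subgroup.zpowers (x k)
  ne_one : ∀ k : ℤ, x k ≠ 1
  sq : ∀ k : ℤ, x k * x k = 1
  shift : ∀ k : ℤ, x (k + 1) = S.h * x k * S.h⁻¹

/-- the vertex group `H_0 = ⟨P_(-1), P_0⟩` -/
def H0 (S : Setup G) : Subgroup G := S.Pj (-1) ⊔ S.Pj 0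

theorem Pj_neg_one_le_H0 (S : Setup G) : S.Pj (-1) ≤ H0 S := le_sup_left

theorem Pj_zero_le_H0 (S : Setup G) : S.Pj 0 ≤ H0 S := le_sup_right

end Cfsg.Agent.Lib.H1.G85
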