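import Cfsg.Agent.Lib.H1.G85.Defs
import Cfsg.Agent.Lib.H5.Glaub.Main
import Cfsg.Agent.Lib.H5.G85SETUP
import Cfsg.Agent.Lib.H21.G85DIH
import Cfsg.Agent.Lib.H13.G85GEN
import Cfsg.Agent.Lib.H14.G85T6
import Cfsg.Agent.Lib.H13.GlaubT6

/-!
# S4385 (Glauberman 1969, dihedral case): reduction to the three end cases

Blueprint: `tools/blueprints/S4385.md`.  The pieces (DIH), (SETUP), (GEN), (T6) and the chain theorem of S4359
reduce the statement to the cases `(q,t) = (2,2), (2,3), (3,4)`, taken here as hypotheses.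
-/

set_option autoImplicit false
open scoped Pointwise
open Cfsg.Agent.Lib.H5.Glaub Cfsg.Agent.Lib.H5.Glaub.Setup

namespace Cfsg.Agent.Lib.H1.G85

variable {G : Type*} [Group G] [Finite G]

/-- the statement of S4385, given the three end cases -/
theorem main85_of_cases
    (c22 : ∀ S : Setup G, S.p = 2 → S.Uni 2 → S.Ivl 2 → S.Dist 2 2 → ∀ x : ℤ → G, Gen S 2 x →
      ¬ 2 ∣ (S.Pj 0).relIndex (H0 S) →
      Nonempty (↥(H0 S) ⧸ Cfsg.oddCore ↥(H0 S) ≃* Multiplicative (ZMod 2) × Multiplicative (ZMod 2)))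
    (c23 : ∀ S : Setup G, S.p = 2 → S.Uni 3 → S.Ivl 3 → S.Dist 3 2 → S.Cen 3 2 → ∀ x : ℤ → G, Gen S 3 x →
      ¬ 2 ∣ (S.Pj 0).relIndex (H0 S) →
      Nonempty (↥(H0 S) ⧸ Cfsg.oddCore ↥(H0 S) ≃* Equiv.Perm (Fin 4)))
    (c34 : ∀ S : Setup G, S.p = 2 → S.Uni 4 → S.Ivl 4 → S.Dist 4 3 → S.Cen 4 3 → ∀ x : ℤ → G, Gen S 4 x →
      ¬ 2 ∣ (S.Pj 0).relIndex (H0 S) →
      Nonempty (↥(H0 S) ⧸ Cfsg.oddCore ↥(H0 S) ≃* Equiv.Perm (Fin 4) × Multiplicative (ZMod 2)))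
    (H : Subgroup G) (hO : Cfsg.pCore 2 ↥H ≠ ⊥) (n : ℕ) (hn : 2 ≤ n)
    (hdih : Nonempty (↥H ⧸ Cfsg.pCore 2 ↥H ≃* DihedralGroup n))
    (P : Subgroup G) (hPH : P ≤ H) (hP : IsPGroup 2 P) (hPsyl : ¬ 2 ∣ P.relIndex H)
    (y : G) (hy2 : y ^ 2 ∈ P ⊔ Subgroup.centralizer (P : Set G)) (hyN : MulAut.conj y • P = P)
    (hyQ : ∀ Q : Subgroup G, Q ≤ P → (Q.subgroupOf H).Normal → MulAut.conj y • Q = Q → Q = ⊥) :
    (Nat.card P = 4 ∨ Nat.card P = 8 ∨ Nat.card P = 16) ∧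
    (Nonempty (↥H ⧸ Cfsg.oddCore ↥H ≃* Multiplicative (ZMod 2) × Multiplicative (ZMod 2)) ∨
     Nonempty (↥H ⧸ Cfsg.oddCore ↥H ≃* Equiv.Perm (Fin 4)) ∨
     Nonempty (↥H ⧸ Cfsg.oddCore ↥H ≃* Equiv.Perm (Fin 4) × Multiplicative (ZMod 2))) := by
  obtain ⟨x, hxH, hgen, hidx, hnorm, hQne⟩ := Cfsg.Agent.Lib.H21.G85.dih H hO n hn hdih P hPH hP hPsyl
  obtain ⟨S, hSP, hp2, hH0, hy1, hy2', hZ⟩ :=
    Cfsg.Agent.Lib.H5.G85.setup H P hPH x hxH hgen hidx hnorm y hy2 hyN hyQ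
  obtain ⟨t, q, hU, hI, hD, hC, hcard, hb, h3⟩ := exists_chain S 2 hZ
  rw [hSP, hp2] at hcard
  -- `t ≥ 2`
  have ht2 : 2 ≤ t := by
    have h1 : Nat.card ↥(MulAut.conj x • P) = Nat.card P :=
      Nat.card_congr (Subgroup.equivSMul (MulAut.conj x) P).symm.toEquiv
    have h2 : Nat.card ↥(P ⊓ MulAut.conj x • P) * 2 = Nat.card ↥(MulAut.conj x • P) := by
      rw [← hidx]
      have := Subgroup.relIndex_mul_relIndex ⊥ (P ⊓ MulAut.conj x • P) (MulAut.conj x • P) bot_le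
        inf_le_right
      rwa [Subgroup.relIndex_bot_left, Subgroup.relIndex_bot_left] at this
    have h3 : 2 ≤ Nat.card ↥(P ⊓ MulAut.conj x • P) := by
      have := (Subgroup.one_lt_card_iff_ne_bot (P ⊓ MulAut.conj x • P)).2 hQne
      omega
    have h4 : 4 ≤ 2 ^ t := by rw [← hcard]; omega
    by_contra hlt
    have : t = 0 ∨ t = 1 := by omega
    rcases this with rfl | rfl <;> omega
  have hodd : ¬ 2 ∣ (S.Pj 0).relIndex (H0 S) := by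
    rw [S.Pj_zero, hSP, hH0]; exact hPsyl
  obtain ⟨xs, hxs⟩ := Cfsg.Agent.Lib.H13.G85.exists_gen S hp2 t hU
  have hcases : (q = 2 ∧ t = 2) ∨ (q = 2 ∧ t = 3) ∨ (q = 3 ∧ t = 4) ∨ (q = 4 ∧ t = 6) := by
    have := hD.pos
    by_cases hq : q + 1 ≤ t
    · have := h3 hq
      omega
    · omega
  have transport : ∀ X : Type, ∀ [Group X], Nonempty (↥(H0 S) ⧸ Cfsg.oddCore ↥(H0 S) ≃* X) →
      Nonempty (↥H ⧸ Cfsg.oddCore ↥H ≃* X) := by
    intro X _ hX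
    rw [hH0] at hX
    exact hX
  rcases hcases with ⟨rfl, rfl⟩ | ⟨rfl, rfl⟩ | ⟨rfl, rfl⟩ | ⟨rfl, rfl⟩
  · exact ⟨Or.inl (by rw [hcard]; norm_num), Or.inl (transport _ (c22 S hp2 hU hI hD xs hxs hodd))⟩
  · exact ⟨Or.inr (Or.inl (by rw [hcard]; norm_num)),
      Or.inr (Or.inl (transport _ (c23 S hp2 hU hI hD hC xs hxs hodd)))⟩
  · exact ⟨Or.inr (Or.inr (by rw [hcard]; norm_num)),
      Or.inr (Or.inr (transport _ (c34 S hp2 hU hI hD hC xs hxs hodd)))⟩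
  · exfalso
    have hN := Cfsg.Agent.Lib.H14.G85.t6_normal S hp2 hU hI hD hC
    rw [hH0] at hN
    set N : Subgroup G := S.Iv 6 (-4) (-1) with hNdef
    have hmem : ∀ g : G, g ∈ N ↔ g ∈ (S.Pj (-1) ⊓ S.Pj 0) ⊓ (S.Pj 0 ⊓ S.Pj 1) := by
      intro g
      rw [hNdef, Cfsg.Agent.Lib.H13.Glaub.mem_Iv S 6 hU (by norm_num) (by norm_num)]
      simp only [Subgroup.mem_inf]
      constructor
      · intro h
        exact ⟨⟨h (-1) (by norm_num) (by norm_num), h 0 (by norm_num) (by norm_num)⟩,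
          h 0 (by norm_num) (by norm_num), h 1 (by norm_num) (by norm_num)⟩
      · rintro ⟨⟨h1, h2⟩, -, h3⟩ j hj1 hj2
        have : j = -1 ∨ j = 0 ∨ j = 1 := by omega
        rcases this with rfl | rfl | rfl
        · exact h1
        · exact h2
        · exact h3
    have hNeq : N = (S.Pj (-1) ⊓ S.Pj 0) ⊓ (S.Pj 0 ⊓ S.Pj 1) := Subgroup.ext hmem
    have hNP : N ≤ P := by
      rw [hNeq, ← hSP, ← S.Pj_zero]
      exact inf_le_left.trans inf_le_right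
    have hNy : MulAut.conj y • N = N := by
      rw [hNeq, Subgroup.smul_inf, hy1, hy2', inf_comm]
    have hNn : (N.subgroupOf H).Normal :=
      (Subgroup.normal_subgroupOf_iff_le_normalizer (hNP.trans hPH)).2 hN
    have hNbot := hyQ N hNP hNn hNy
    have hNcard := hI.card (-4) (-1) (by norm_num) (by norm_num)
    rw [← hNdef, hNbot, hp2] at hNcard
    simp at hNcard

end Cfsg.Agent.Lib.H1.G85
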